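import Cfsg.Agent.CosetCert.Fi24Suborbits.Defs

/-! Generated: kernel checks. -/

set_option Elab.async false

namespace Cfsg.Agent.CosetCert.Fi24Suborbits

theorem place_okAt64000 : allFrom checkPlace 64000 2000 = true := by decide +kernel

theorem place_okAt66000 : allFrom checkPlace 66000 2000 = true := by decide +kernel

theorem place_okAt68000 : allFrom checkPlace 68000 2000 = true := by decide +kernel

theorem place_okAt70000 : allFrom checkPlace 70000 2000 = true := by decide +kernel

theorem place_okAt72000 : allFrom checkPlace 72000 2000 = true := by decide +kernel

theorem place_okAt74000 : allFrom checkPlace 74000 2000 = true := by decide +kernel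

theorem place_okAt76000 : allFrom checkPlace 76000 2000 = true := by decide +kernel

theorem place_okAt78000 : allFrom checkPlace 78000 2000 = true := by decide +kernel

theorem place_okAt80000 : allFrom checkPlace 80000 2000 = true := by decide +kernel

theorem place_okAt82000 : allFrom checkPlace 82000 2000 = true := by decide +kernel

theorem place_okAt84000 : allFrom checkPlace 84000 2000 = true := by decide +kernel

theorem place_okAt86000 : allFrom checkPlace 86000 2000 = true := by decide +kernel

theorem place_okAt88000 : allFrom checkPlace 88000 2000 = true := by decide +kernel

theorem place_okAt90000 : allFrom checkPlace 90000 2000 = true := by decide +kernel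

theorem place_okAt92000 : allFrom checkPlace 92000 2000 = true := by decide +kernel

theorem place_okAt94000 : allFrom checkPlace 94000 2000 = true := by decide +kernel

theorem place_okAt96000 : allFrom checkPlace 96000 2000 = true := by decide +kernel

theorem place_okAt98000 : allFrom checkPlace 98000 2000 = true := by decide +kernel

theorem place_okAt100000 : allFrom checkPlace 100000 2000 = true := by decide +kernel

theorem place_okAt102000 : allFrom checkPlace 102000 2000 = true := by decide +kernel

theorem place_okAt104000 : allFrom checkPlace 104000 2000 = true := by decide +kernel

theorem place_okAt106000 : allFrom checkPlace 106000 2000 = true := by decide +kernel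

theorem place_okAt108000 : allFrom checkPlace 108000 2000 = true := by decide +kernel

theorem place_okAt110000 : allFrom checkPlace 110000 2000 = true := by decide +kernel

theorem place_okAt112000 : allFrom checkPlace 112000 2000 = true := by decide +kernel

theorem place_okAt114000 : allFrom checkPlace 114000 2000 = true := by decide +kernel

theorem place_okAt116000 : allFrom checkPlace 116000 2000 = true := by decide +kernel

theorem place_okAt118000 : allFrom checkPlace 118000 2000 = true := by decide +kernel

theorem place_okAt120000 : allFrom checkPlace 120000 2000 = true := by decide +kernel

theorem place_okAt122000 : allFrom checkPlace 122000 2000 = true := by decide +kernel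

theorem place_okAt124000 : allFrom checkPlace 124000 2000 = true := by decide +kernel

theorem place_okAt126000 : allFrom checkPlace 126000 2000 = true := by decide +kernel

end Cfsg.Agent.CosetCert.Fi24Suborbits
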