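import Cfsg.Agent.CosetCert.Fi24Suborbits.Defs

/-! Generated: kernel checks. -/

set_option Elab.async false

namespace Cfsg.Agent.CosetCert.Fi24Suborbits

theorem place_okAt128000 : allFrom checkPlace 128000 2000 = true := by decide +kernel

theorem place_okAt130000 : allFrom checkPlace 130000 2000 = true := by decide +kernel

theorem place_okAt132000 : allFrom checkPlace 132000 2000 = true := by decide +kernel

theorem place_okAt134000 : allFrom checkPlace 134000 2000 = true := by decide +kernel

theorem place_okAt136000 : allFrom checkPlace 136000 2000 = true := by decide +kernel

theorem place_okAt138000 : allFrom checkPlace 138000 2000 = true := by decide +kernel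

theorem place_okAt140000 : allFrom checkPlace 140000 2000 = true := by decide +kernel

theorem place_okAt142000 : allFrom checkPlace 142000 2000 = true := by decide +kernel

theorem place_okAt144000 : allFrom checkPlace 144000 2000 = true := by decide +kernel

theorem place_okAt146000 : allFrom checkPlace 146000 2000 = true := by decide +kernel

theorem place_okAt148000 : allFrom checkPlace 148000 2000 = true := by decide +kernel

theorem place_okAt150000 : allFrom checkPlace 150000 2000 = true := by decide +kernel

theorem place_okAt152000 : allFrom checkPlace 152000 2000 = true := by decide +kernel

theorem place_okAt154000 : allFrom checkPlace 154000 2000 = true := by decide +kernel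

theorem place_okAt156000 : allFrom checkPlace 156000 2000 = true := by decide +kernel

theorem place_okAt158000 : allFrom checkPlace 158000 2000 = true := by decide +kernel

theorem place_okAt160000 : allFrom checkPlace 160000 2000 = true := by decide +kernel

theorem place_okAt162000 : allFrom checkPlace 162000 2000 = true := by decide +kernel

theorem place_okAt164000 : allFrom checkPlace 164000 2000 = true := by decide +kernel

theorem place_okAt166000 : allFrom checkPlace 166000 2000 = true := by decide +kernel

theorem place_okAt168000 : allFrom checkPlace 168000 2000 = true := by decide +kernel

theorem place_okAt170000 : allFrom checkPlace 170000 2000 = true := by decide +kernel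

theorem place_okAt172000 : allFrom checkPlace 172000 2000 = true := by decide +kernel

theorem place_okAt174000 : allFrom checkPlace 174000 2000 = true := by decide +kernel

theorem place_okAt176000 : allFrom checkPlace 176000 2000 = true := by decide +kernel

theorem place_okAt178000 : allFrom checkPlace 178000 2000 = true := by decide +kernel

theorem place_okAt180000 : allFrom checkPlace 180000 2000 = true := by decide +kernel

theorem place_okAt182000 : allFrom checkPlace 182000 2000 = true := by decide +kernel

theorem place_okAt184000 : allFrom checkPlace 184000 2000 = true := by decide +kernel

theorem place_okAt186000 : allFrom checkPlace 186000 2000 = true := by decide +kernel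

theorem place_okAt188000 : allFrom checkPlace 188000 2000 = true := by decide +kernel

theorem place_okAt190000 : allFrom checkPlace 190000 2000 = true := by decide +kernel

end Cfsg.Agent.CosetCert.Fi24Suborbits
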