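import Cfsg.Agent.CosetCert.Fi24Suborbits.Defs

/-! Generated: kernel checks. -/

set_option Elab.async false

namespace Cfsg.Agent.CosetCert.Fi24Suborbits

theorem place_okAt192000 : allFrom checkPlace 192000 2000 = true := by decide +kernel

theorem place_okAt194000 : allFrom checkPlace 194000 2000 = true := by decide +kernel

theorem place_okAt196000 : allFrom checkPlace 196000 2000 = true := by decide +kernel

theorem place_okAt198000 : allFrom checkPlace 198000 2000 = true := by decide +kernel

theorem place_okAt200000 : allFrom checkPlace 200000 2000 = true := by decide +kernel

theorem place_okAt202000 : allFrom checkPlace 202000 2000 = true := by decide +kernel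

theorem place_okAt204000 : allFrom checkPlace 204000 2000 = true := by decide +kernel

theorem place_okAt206000 : allFrom checkPlace 206000 2000 = true := by decide +kernel

theorem place_okAt208000 : allFrom checkPlace 208000 2000 = true := by decide +kernel

theorem place_okAt210000 : allFrom checkPlace 210000 2000 = true := by decide +kernel

theorem place_okAt212000 : allFrom checkPlace 212000 2000 = true := by decide +kernel

theorem place_okAt214000 : allFrom checkPlace 214000 2000 = true := by decide +kernel

theorem place_okAt216000 : allFrom checkPlace 216000 2000 = true := by decide +kernel

theorem place_okAt218000 : allFrom checkPlace 218000 2000 = true := by decide +kernel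

theorem place_okAt220000 : allFrom checkPlace 220000 2000 = true := by decide +kernel

theorem place_okAt222000 : allFrom checkPlace 222000 2000 = true := by decide +kernel

theorem place_okAt224000 : allFrom checkPlace 224000 2000 = true := by decide +kernel

theorem place_okAt226000 : allFrom checkPlace 226000 2000 = true := by decide +kernel

theorem place_okAt228000 : allFrom checkPlace 228000 2000 = true := by decide +kernel

theorem place_okAt230000 : allFrom checkPlace 230000 2000 = true := by decide +kernel

theorem place_okAt232000 : allFrom checkPlace 232000 2000 = true := by decide +kernel

theorem place_okAt234000 : allFrom checkPlace 234000 2000 = true := by decide +kernel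

theorem place_okAt236000 : allFrom checkPlace 236000 2000 = true := by decide +kernel

theorem place_okAt238000 : allFrom checkPlace 238000 2000 = true := by decide +kernel

theorem place_okAt240000 : allFrom checkPlace 240000 2000 = true := by decide +kernel

theorem place_okAt242000 : allFrom checkPlace 242000 2000 = true := by decide +kernel

theorem place_okAt244000 : allFrom checkPlace 244000 2000 = true := by decide +kernel

theorem place_okAt246000 : allFrom checkPlace 246000 2000 = true := by decide +kernel

theorem place_okAt248000 : allFrom checkPlace 248000 2000 = true := by decide +kernel

theorem place_okAt250000 : allFrom checkPlace 250000 2000 = true := by decide +kernel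

theorem place_okAt252000 : allFrom checkPlace 252000 2000 = true := by decide +kernel

theorem place_okAt254000 : allFrom checkPlace 254000 2000 = true := by decide +kernel

end Cfsg.Agent.CosetCert.Fi24Suborbits
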