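import Cfsg.Agent.CosetCert.Fi24Suborbits.Defs

/-! Generated: kernel checks. -/

set_option Elab.async false

namespace Cfsg.Agent.CosetCert.Fi24Suborbits

theorem place_okAt256000 : allFrom checkPlace 256000 2000 = true := by decide +kernel

theorem place_okAt258000 : allFrom checkPlace 258000 2000 = true := by decide +kernel

theorem place_okAt260000 : allFrom checkPlace 260000 2000 = true := by decide +kernel

theorem place_okAt262000 : allFrom checkPlace 262000 2000 = true := by decide +kernel

theorem place_okAt264000 : allFrom checkPlace 264000 2000 = true := by decide +kernel

theorem place_okAt266000 : allFrom checkPlace 266000 2000 = true := by decide +kernel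

theorem place_okAt268000 : allFrom checkPlace 268000 2000 = true := by decide +kernel

theorem place_okAt270000 : allFrom checkPlace 270000 2000 = true := by decide +kernel

theorem place_okAt272000 : allFrom checkPlace 272000 2000 = true := by decide +kernel

theorem place_okAt274000 : allFrom checkPlace 274000 2000 = true := by decide +kernel

theorem place_okAt276000 : allFrom checkPlace 276000 2000 = true := by decide +kernel

theorem place_okAt278000 : allFrom checkPlace 278000 2000 = true := by decide +kernel

theorem place_okAt280000 : allFrom checkPlace 280000 2000 = true := by decide +kernel

theorem place_okAt282000 : allFrom checkPlace 282000 2000 = true := by decide +kernel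

theorem place_okAt284000 : allFrom checkPlace 284000 2000 = true := by decide +kernel

theorem place_okAt286000 : allFrom checkPlace 286000 2000 = true := by decide +kernel

theorem place_okAt288000 : allFrom checkPlace 288000 2000 = true := by decide +kernel

theorem place_okAt290000 : allFrom checkPlace 290000 2000 = true := by decide +kernel

theorem place_okAt292000 : allFrom checkPlace 292000 2000 = true := by decide +kernel

theorem place_okAt294000 : allFrom checkPlace 294000 2000 = true := by decide +kernel

theorem place_okAt296000 : allFrom checkPlace 296000 2000 = true := by decide +kernel

theorem place_okAt298000 : allFrom checkPlace 298000 2000 = true := by decide +kernel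

theorem place_okAt300000 : allFrom checkPlace 300000 2000 = true := by decide +kernel

theorem place_okAt302000 : allFrom checkPlace 302000 2000 = true := by decide +kernel

theorem place_okAt304000 : allFrom checkPlace 304000 2000 = true := by decide +kernel

theorem place_okAt306000 : allFrom checkPlace 306000 936 = true := by decide +kernel

end Cfsg.Agent.CosetCert.Fi24Suborbits
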