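import Cfsg.Agent.CosetCert.Fi24Suborbits.Check0
import Cfsg.Agent.CosetCert.Fi24Suborbits.Check1
import Cfsg.Agent.CosetCert.Fi24Suborbits.Check2
import Cfsg.Agent.CosetCert.Fi24Suborbits.Check3
import Cfsg.Agent.CosetCert.Fi24Suborbits.Check4

/-! Generated: kernel checks combined. -/

set_option maxRecDepth 100000

namespace Cfsg.Agent.CosetCert.Fi24Suborbits

theorem place_ok : ∀ i, i < 306936 → checkPlace i = true := by
  have h0 : ∀ i, i < 0 → checkPlace i = true := forall_lt_zero
  have h1 := forall_lt_step (b := 2000) h0 place_okAt0 rfl
  have h2 := forall_lt_step (b := 4000) h1 place_okAt2000 rfl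
  have h3 := forall_lt_step (b := 6000) h2 place_okAt4000 rfl
  have h4 := forall_lt_step (b := 8000) h3 place_okAt6000 rfl
  have h5 := forall_lt_step (b := 10000) h4 place_okAt8000 rfl
  have h6 := forall_lt_step (b := 12000) h5 place_okAt10000 rfl
  have h7 := forall_lt_step (b := 14000) h6 place_okAt12000 rfl
  have h8 := forall_lt_step (b := 16000) h7 place_okAt14000 rfl
  have h9 := forall_lt_step (b := 18000) h8 place_okAt16000 rfl
  have h10 := forall_lt_step (b := 20000) h9 place_okAt18000 rfl
  have h11 := forall_lt_step (b := 22000) h10 place_okAt20000 rfl
  have h12 := forall_lt_step (b := 24000) h11 place_okAt22000 rfl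
  have h13 := forall_lt_step (b := 26000) h12 place_okAt24000 rfl
  have h14 := forall_lt_step (b := 28000) h13 place_okAt26000 rfl
  have h15 := forall_lt_step (b := 30000) h14 place_okAt28000 rfl
  have h16 := forall_lt_step (b := 32000) h15 place_okAt30000 rfl
  have h17 := forall_lt_step (b := 34000) h16 place_okAt32000 rfl
  have h18 := forall_lt_step (b := 36000) h17 place_okAt34000 rfl
  have h19 := forall_lt_step (b := 38000) h18 place_okAt36000 rfl
  have h20 := forall_lt_step (b := 40000) h19 place_okAt38000 rfl
  have h21 := forall_lt_step (b := 42000) h20 place_okAt40000 rfl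
  have h22 := forall_lt_step (b := 44000) h21 place_okAt42000 rfl
  have h23 := forall_lt_step (b := 46000) h22 place_okAt44000 rfl
  have h24 := forall_lt_step (b := 48000) h23 place_okAt46000 rfl
  have h25 := forall_lt_step (b := 50000) h24 place_okAt48000 rfl
  have h26 := forall_lt_step (b := 52000) h25 place_okAt50000 rfl
  have h27 := forall_lt_step (b := 54000) h26 place_okAt52000 rfl
  have h28 := forall_lt_step (b := 56000) h27 place_okAt54000 rfl
  have h29 := forall_lt_step (b := 58000) h28 place_okAt56000 rfl
  have h30 := forall_lt_step (b := 60000) h29 place_okAt58000 rfl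
  have h31 := forall_lt_step (b := 62000) h30 place_okAt60000 rfl
  have h32 := forall_lt_step (b := 64000) h31 place_okAt62000 rfl
  have h33 := forall_lt_step (b := 66000) h32 place_okAt64000 rfl
  have h34 := forall_lt_step (b := 68000) h33 place_okAt66000 rfl
  have h35 := forall_lt_step (b := 70000) h34 place_okAt68000 rfl
  have h36 := forall_lt_step (b := 72000) h35 place_okAt70000 rfl
  have h37 := forall_lt_step (b := 74000) h36 place_okAt72000 rfl
  have h38 := forall_lt_step (b := 76000) h37 place_okAt74000 rfl
  have h39 := forall_lt_step (b := 78000) h38 place_okAt76000 rfl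
  have h40 := forall_lt_step (b := 80000) h39 place_okAt78000 rfl
  have h41 := forall_lt_step (b := 82000) h40 place_okAt80000 rfl
  have h42 := forall_lt_step (b := 84000) h41 place_okAt82000 rfl
  have h43 := forall_lt_step (b := 86000) h42 place_okAt84000 rfl
  have h44 := forall_lt_step (b := 88000) h43 place_okAt86000 rfl
  have h45 := forall_lt_step (b := 90000) h44 place_okAt88000 rfl
  have h46 := forall_lt_step (b := 92000) h45 place_okAt90000 rfl
  have h47 := forall_lt_step (b := 94000) h46 place_okAt92000 rfl
  have h48 := forall_lt_step (b := 96000) h47 place_okAt94000 rfl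
  have h49 := forall_lt_step (b := 98000) h48 place_okAt96000 rfl
  have h50 := forall_lt_step (b := 100000) h49 place_okAt98000 rfl
  have h51 := forall_lt_step (b := 102000) h50 place_okAt100000 rfl
  have h52 := forall_lt_step (b := 104000) h51 place_okAt102000 rfl
  have h53 := forall_lt_step (b := 106000) h52 place_okAt104000 rfl
  have h54 := forall_lt_step (b := 108000) h53 place_okAt106000 rfl
  have h55 := forall_lt_step (b := 110000) h54 place_okAt108000 rfl
  have h56 := forall_lt_step (b := 112000) h55 place_okAt110000 rfl
  have h57 := forall_lt_step (b := 114000) h56 place_okAt112000 rfl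
  have h58 := forall_lt_step (b := 116000) h57 place_okAt114000 rfl
  have h59 := forall_lt_step (b := 118000) h58 place_okAt116000 rfl
  have h60 := forall_lt_step (b := 120000) h59 place_okAt118000 rfl
  have h61 := forall_lt_step (b := 122000) h60 place_okAt120000 rfl
  have h62 := forall_lt_step (b := 124000) h61 place_okAt122000 rfl
  have h63 := forall_lt_step (b := 126000) h62 place_okAt124000 rfl
  have h64 := forall_lt_step (b := 128000) h63 place_okAt126000 rfl
  have h65 := forall_lt_step (b := 130000) h64 place_okAt128000 rfl
  have h66 := forall_lt_step (b := 132000) h65 place_okAt130000 rfl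
  have h67 := forall_lt_step (b := 134000) h66 place_okAt132000 rfl
  have h68 := forall_lt_step (b := 136000) h67 place_okAt134000 rfl
  have h69 := forall_lt_step (b := 138000) h68 place_okAt136000 rfl
  have h70 := forall_lt_step (b := 140000) h69 place_okAt138000 rfl
  have h71 := forall_lt_step (b := 142000) h70 place_okAt140000 rfl
  have h72 := forall_lt_step (b := 144000) h71 place_okAt142000 rfl
  have h73 := forall_lt_step (b := 146000) h72 place_okAt144000 rfl
  have h74 := forall_lt_step (b := 148000) h73 place_okAt146000 rfl
  have h75 := forall_lt_step (b := 150000) h74 place_okAt148000 rfl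
  have h76 := forall_lt_step (b := 152000) h75 place_okAt150000 rfl
  have h77 := forall_lt_step (b := 154000) h76 place_okAt152000 rfl
  have h78 := forall_lt_step (b := 156000) h77 place_okAt154000 rfl
  have h79 := forall_lt_step (b := 158000) h78 place_okAt156000 rfl
  have h80 := forall_lt_step (b := 160000) h79 place_okAt158000 rfl
  have h81 := forall_lt_step (b := 162000) h80 place_okAt160000 rfl
  have h82 := forall_lt_step (b := 164000) h81 place_okAt162000 rfl
  have h83 := forall_lt_step (b := 166000) h82 place_okAt164000 rfl
  have h84 := forall_lt_step (b := 168000) h83 place_okAt166000 rfl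
  have h85 := forall_lt_step (b := 170000) h84 place_okAt168000 rfl
  have h86 := forall_lt_step (b := 172000) h85 place_okAt170000 rfl
  have h87 := forall_lt_step (b := 174000) h86 place_okAt172000 rfl
  have h88 := forall_lt_step (b := 176000) h87 place_okAt174000 rfl
  have h89 := forall_lt_step (b := 178000) h88 place_okAt176000 rfl
  have h90 := forall_lt_step (b := 180000) h89 place_okAt178000 rfl
  have h91 := forall_lt_step (b := 182000) h90 place_okAt180000 rfl
  have h92 := forall_lt_step (b := 184000) h91 place_okAt182000 rfl
  have h93 := forall_lt_step (b := 186000) h92 place_okAt184000 rfl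
  have h94 := forall_lt_step (b := 188000) h93 place_okAt186000 rfl
  have h95 := forall_lt_step (b := 190000) h94 place_okAt188000 rfl
  have h96 := forall_lt_step (b := 192000) h95 place_okAt190000 rfl
  have h97 := forall_lt_step (b := 194000) h96 place_okAt192000 rfl
  have h98 := forall_lt_step (b := 196000) h97 place_okAt194000 rfl
  have h99 := forall_lt_step (b := 198000) h98 place_okAt196000 rfl
  have h100 := forall_lt_step (b := 200000) h99 place_okAt198000 rfl
  have h101 := forall_lt_step (b := 202000) h100 place_okAt200000 rfl
  have h102 := forall_lt_step (b := 204000) h101 place_okAt202000 rfl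
  have h103 := forall_lt_step (b := 206000) h102 place_okAt204000 rfl
  have h104 := forall_lt_step (b := 208000) h103 place_okAt206000 rfl
  have h105 := forall_lt_step (b := 210000) h104 place_okAt208000 rfl
  have h106 := forall_lt_step (b := 212000) h105 place_okAt210000 rfl
  have h107 := forall_lt_step (b := 214000) h106 place_okAt212000 rfl
  have h108 := forall_lt_step (b := 216000) h107 place_okAt214000 rfl
  have h109 := forall_lt_step (b := 218000) h108 place_okAt216000 rfl
  have h110 := forall_lt_step (b := 220000) h109 place_okAt218000 rfl
  have h111 := forall_lt_step (b := 222000) h110 place_okAt220000 rfl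
  have h112 := forall_lt_step (b := 224000) h111 place_okAt222000 rfl
  have h113 := forall_lt_step (b := 226000) h112 place_okAt224000 rfl
  have h114 := forall_lt_step (b := 228000) h113 place_okAt226000 rfl
  have h115 := forall_lt_step (b := 230000) h114 place_okAt228000 rfl
  have h116 := forall_lt_step (b := 232000) h115 place_okAt230000 rfl
  have h117 := forall_lt_step (b := 234000) h116 place_okAt232000 rfl
  have h118 := forall_lt_step (b := 236000) h117 place_okAt234000 rfl
  have h119 := forall_lt_step (b := 238000) h118 place_okAt236000 rfl
  have h120 := forall_lt_step (b := 240000) h119 place_okAt238000 rfl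
  have h121 := forall_lt_step (b := 242000) h120 place_okAt240000 rfl
  have h122 := forall_lt_step (b := 244000) h121 place_okAt242000 rfl
  have h123 := forall_lt_step (b := 246000) h122 place_okAt244000 rfl
  have h124 := forall_lt_step (b := 248000) h123 place_okAt246000 rfl
  have h125 := forall_lt_step (b := 250000) h124 place_okAt248000 rfl
  have h126 := forall_lt_step (b := 252000) h125 place_okAt250000 rfl
  have h127 := forall_lt_step (b := 254000) h126 place_okAt252000 rfl
  have h128 := forall_lt_step (b := 256000) h127 place_okAt254000 rfl
  have h129 := forall_lt_step (b := 258000) h128 place_okAt256000 rfl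
  have h130 := forall_lt_step (b := 260000) h129 place_okAt258000 rfl
  have h131 := forall_lt_step (b := 262000) h130 place_okAt260000 rfl
  have h132 := forall_lt_step (b := 264000) h131 place_okAt262000 rfl
  have h133 := forall_lt_step (b := 266000) h132 place_okAt264000 rfl
  have h134 := forall_lt_step (b := 268000) h133 place_okAt266000 rfl
  have h135 := forall_lt_step (b := 270000) h134 place_okAt268000 rfl
  have h136 := forall_lt_step (b := 272000) h135 place_okAt270000 rfl
  have h137 := forall_lt_step (b := 274000) h136 place_okAt272000 rfl
  have h138 := forall_lt_step (b := 276000) h137 place_okAt274000 rfl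
  have h139 := forall_lt_step (b := 278000) h138 place_okAt276000 rfl
  have h140 := forall_lt_step (b := 280000) h139 place_okAt278000 rfl
  have h141 := forall_lt_step (b := 282000) h140 place_okAt280000 rfl
  have h142 := forall_lt_step (b := 284000) h141 place_okAt282000 rfl
  have h143 := forall_lt_step (b := 286000) h142 place_okAt284000 rfl
  have h144 := forall_lt_step (b := 288000) h143 place_okAt286000 rfl
  have h145 := forall_lt_step (b := 290000) h144 place_okAt288000 rfl
  have h146 := forall_lt_step (b := 292000) h145 place_okAt290000 rfl
  have h147 := forall_lt_step (b := 294000) h146 place_okAt292000 rfl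
  have h148 := forall_lt_step (b := 296000) h147 place_okAt294000 rfl
  have h149 := forall_lt_step (b := 298000) h148 place_okAt296000 rfl
  have h150 := forall_lt_step (b := 300000) h149 place_okAt298000 rfl
  have h151 := forall_lt_step (b := 302000) h150 place_okAt300000 rfl
  have h152 := forall_lt_step (b := 304000) h151 place_okAt302000 rfl
  have h153 := forall_lt_step (b := 306000) h152 place_okAt304000 rfl
  have h154 := forall_lt_step (b := 306936) h153 place_okAt306000 rfl
  exact h154

end Cfsg.Agent.CosetCert.Fi24Suborbits
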