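import Cfsg.Agent.CosetCert.Fi24Suborbits.Defs

/-! Generated: kernel checks. -/

set_option Elab.async false

namespace Cfsg.Agent.CosetCert.Fi24Suborbits

theorem place_okAt0 : allFrom checkPlace 0 2000 = true := by decide +kernel

theorem place_okAt2000 : allFrom checkPlace 2000 2000 = true := by decide +kernel

theorem place_okAt4000 : allFrom checkPlace 4000 2000 = true := by decide +kernel

theorem place_okAt6000 : allFrom checkPlace 6000 2000 = true := by decide +kernel

theorem place_okAt8000 : allFrom checkPlace 8000 2000 = true := by decide +kernel

theorem place_okAt10000 : allFrom checkPlace 10000 2000 = true := by decide +kernel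

theorem place_okAt12000 : allFrom checkPlace 12000 2000 = true := by decide +kernel

theorem place_okAt14000 : allFrom checkPlace 14000 2000 = true := by decide +kernel

theorem place_okAt16000 : allFrom checkPlace 16000 2000 = true := by decide +kernel

theorem place_okAt18000 : allFrom checkPlace 18000 2000 = true := by decide +kernel

theorem place_okAt20000 : allFrom checkPlace 20000 2000 = true := by decide +kernel

theorem place_okAt22000 : allFrom checkPlace 22000 2000 = true := by decide +kernel

theorem place_okAt24000 : allFrom checkPlace 24000 2000 = true := by decide +kernel

theorem place_okAt26000 : allFrom checkPlace 26000 2000 = true := by decide +kernel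

theorem place_okAt28000 : allFrom checkPlace 28000 2000 = true := by decide +kernel

theorem place_okAt30000 : allFrom checkPlace 30000 2000 = true := by decide +kernel

theorem place_okAt32000 : allFrom checkPlace 32000 2000 = true := by decide +kernel

theorem place_okAt34000 : allFrom checkPlace 34000 2000 = true := by decide +kernel

theorem place_okAt36000 : allFrom checkPlace 36000 2000 = true := by decide +kernel

theorem place_okAt38000 : allFrom checkPlace 38000 2000 = true := by decide +kernel

theorem place_okAt40000 : allFrom checkPlace 40000 2000 = true := by decide +kernel

theorem place_okAt42000 : allFrom checkPlace 42000 2000 = true := by decide +kernel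

theorem place_okAt44000 : allFrom checkPlace 44000 2000 = true := by decide +kernel

theorem place_okAt46000 : allFrom checkPlace 46000 2000 = true := by decide +kernel

theorem place_okAt48000 : allFrom checkPlace 48000 2000 = true := by decide +kernel

theorem place_okAt50000 : allFrom checkPlace 50000 2000 = true := by decide +kernel

theorem place_okAt52000 : allFrom checkPlace 52000 2000 = true := by decide +kernel

theorem place_okAt54000 : allFrom checkPlace 54000 2000 = true := by decide +kernel

theorem place_okAt56000 : allFrom checkPlace 56000 2000 = true := by decide +kernel

theorem place_okAt58000 : allFrom checkPlace 58000 2000 = true := by decide +kernel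

theorem place_okAt60000 : allFrom checkPlace 60000 2000 = true := by decide +kernel

theorem place_okAt62000 : allFrom checkPlace 62000 2000 = true := by decide +kernel

end Cfsg.Agent.CosetCert.Fi24Suborbits
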