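import Cfsg.Agent.CosetCert.Fi24Index.Defs
import Cfsg.Agent.CosetCert.Fi24Suborbits.PlaceData
import Cfsg.Agent.CosetCert.Fi24Suborbits.PointData

/-! Generated: the three orbits of the point stabiliser. -/

namespace Cfsg.Agent.CosetCert.Fi24Suborbits

/-- The place of a point in the list of the orbits. -/
noncomputable def place (c : Nat) : Nat := Nat.mod (get48 placeStore c) 1048576

/-- Where the orbit of a place starts. -/
noncomputable def start (i : Nat) : Nat := sel (Nat.beq i 0) 0 (sel (Nat.blt i 31672) 1 31672)

/-- The roots of the orbits. -/
noncomputable def rootOf (s : Nat) : Nat := sel (Nat.beq s 0) 0 (sel (Nat.beq s 1) 8 3)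

/-- At `c`: the place is right, and `c` is a root or reached from an earlier point of its orbit. -/
noncomputable def checkPlace (c : Nat) : Bool :=
  force (get48 placeStore c) fun e => force (Nat.mod e 1048576) fun i => force (start i) fun s =>
    gate (Nat.blt i 306936) (gate (Nat.beq (get48 pointStore i) c)
      (Bool.rec (motive := fun _ => Bool)
        (force (Nat.mod (Nat.div e 1048576) 16) fun x => force (Nat.div e 16777216) fun p =>
          force (place p) fun j =>
            gate (Nat.blt p 306936) (gate (Nat.blt j i) (gate (Nat.ble s j)
              (gate (Nat.blt 0 x) (gate (Nat.blt x 12)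
                (Nat.beq (tgt (Fi24Index.row p) x) c))))))
        (Nat.beq c (rootOf s)) (Nat.beq i s)))

end Cfsg.Agent.CosetCert.Fi24Suborbits
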