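import Cfsg.Agent.CosetCert.Fi24Suborbits.Check

/-!
The three orbits of the stabiliser on the 306936 cosets: sizes 1, 31671, 275264.
-/

namespace Cfsg.Agent.CosetCert.Fi24Suborbits

/-- The orbit of a point, named by its first place. -/
noncomputable def cls (c : Nat) : Nat := start (place c)

theorem start_cases (i : Nat) :
    (i = 0 ∧ start i = 0) ∨ (0 < i ∧ i < 31672 ∧ start i = 1) ∨
      (31672 ≤ i ∧ start i = 31672) := by
  unfold start sel
  rcases Nat.eq_zero_or_pos i with rfl | hi
  · exact Or.inl ⟨rfl, rfl⟩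
  · have h0 : Nat.beq i 0 = false := by
      cases h : Nat.beq i 0
      · rfl
      · exact absurd (Nat.eq_of_beq_eq_true h) (Nat.ne_of_gt hi)
    rw [h0]
    cases h : Nat.blt i 31672
    · refine Or.inr (Or.inr ⟨Nat.le_of_not_lt fun hh => ?_, rfl⟩)
      have h' : Nat.blt i 31672 = true := Nat.ble_eq_true_of_le hh
      rw [h] at h'
      exact Bool.noConfusion h'
    · exact Or.inr (Or.inl ⟨hi, Nat.ble_eq.mp h, rfl⟩)

theorem start_between {i j : Nat} (h1 : start i ≤ j) (h2 : j < i) : start j = start i := by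
  rcases start_cases i with ⟨hi, ei⟩ | ⟨hi, hi', ei⟩ | ⟨hi, ei⟩ <;>
    rcases start_cases j with ⟨hj, ej⟩ | ⟨hj, hj', ej⟩ | ⟨hj, ej⟩ <;> omega

theorem place_spec {c : Nat} (hc : c < 306936) :
    place c < 306936 ∧ get48 pointStore (place c) = c ∧
      (c = rootOf (cls c) ∨ ∃ p x, p < 306936 ∧ place p < place c ∧ cls p = cls c ∧
        0 < x ∧ x < 12 ∧ Fi24Index.data.T p x = c) := by
  have h := place_ok c hc
  simp only [checkPlace, force_eq, gate_eq, Bool.and_eq_true] at h
  obtain ⟨h1, h2, h3⟩ := h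
  refine ⟨Nat.ble_eq.mp h1, Nat.eq_of_beq_eq_true h2, ?_⟩
  cases hb : Nat.beq (place c) (start (place c))
  · rw [show Nat.mod (get48 placeStore c) 1048576 = place c from rfl, hb] at h3
    simp only [Bool.and_eq_true] at h3
    obtain ⟨hp, hji, hsj, hx0, hx, hT⟩ := h3
    refine Or.inr ⟨_, Nat.mod (Nat.div (get48 placeStore c) 1048576) 16, Nat.ble_eq.mp hp,
      Nat.ble_eq.mp hji, start_between (Nat.le_of_ble_eq_true hsj) (Nat.ble_eq.mp hji),
      Nat.ble_eq.mp hx0, Nat.ble_eq.mp hx, ?_⟩
    rw [Data.T_rowEdge (D := Fi24Index.data) Fi24Index.row rfl _ _ (Nat.ble_eq.mp hx)]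
    exact Nat.eq_of_beq_eq_true hT
  · rw [show Nat.mod (get48 placeStore c) 1048576 = place c from rfl, hb] at h3
    exact Or.inl (Nat.eq_of_beq_eq_true h3)

/-- A point is reached from the root of its orbit by letters of the stabiliser. -/
theorem reach {c : Nat} (hc : c < 306936) :
    ∃ w : List Nat, (∀ x ∈ w, 0 < x ∧ x < 12) ∧ Fi24Index.data.fwd w (rootOf (cls c)) = c := by
  suffices key : ∀ i c, c < 306936 → place c = i → ∃ w : List Nat,
      (∀ x ∈ w, 0 < x ∧ x < 12) ∧ Fi24Index.data.fwd w (rootOf (cls c)) = c from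
    key _ c hc rfl
  intro i
  induction i using Nat.strong_induction_on with
  | _ i ih =>
    intro c hc hi
    rcases (place_spec hc).2.2 with h | ⟨p, x, hp, hlt, hcls, hx0, hx, hT⟩
    · exact ⟨[], fun x hx => absurd hx List.not_mem_nil, h.symm⟩
    · obtain ⟨w, hw, hfw⟩ := ih (place p) (hi ▸ hlt) p hp rfl
      refine ⟨w ++ [x], fun y hy => ?_, ?_⟩
      · rcases List.mem_append.1 hy with hy | hy
        · exact hw y hy
        · rw [List.mem_singleton.1 hy]; exact ⟨hx0, hx⟩
      · rw [Data.fwd_append, ← hcls, hfw, Data.fwd_cons, Data.fwd_nil, hT]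

theorem cls_cases (c : Nat) : cls c = 0 ∨ cls c = 1 ∨ cls c = 31672 := by
  rcases start_cases (place c) with ⟨_, h⟩ | ⟨_, _, h⟩ | ⟨_, h⟩
  · exact Or.inl h
  · exact Or.inr (Or.inl h)
  · exact Or.inr (Or.inr h)

theorem cls_zero {c : Nat} (hc : c < 306936) (h : cls c = 0) : c = 0 := by
  have hp : place c = 0 := by
    rcases start_cases (place c) with ⟨e, _⟩ | ⟨_, _, e⟩ | ⟨_, e⟩
    · exact e
    all_goals exact absurd (h.symm.trans e) (by decide)
  have := (place_spec hc).2.1
  rw [hp] at this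
  rw [← this]
  decide +kernel

/-- The points of an orbit. -/
noncomputable def part (s : Nat) : Finset (Fin 306936) :=
  Finset.univ.filter fun c => cls c = s

/-- Places of points. -/
noncomputable def placeEquiv : Fin 306936 ≃ Fin 306936 :=
  Equiv.ofBijective (fun c => ⟨place c, (place_spec c.2).1⟩)
    (Finite.injective_iff_bijective.1 fun c d h => by
      have h' : place c = place d := congrArg Fin.val h
      exact Fin.ext ((place_spec c.2).2.1.symm.trans (h' ▸ (place_spec d.2).2.1)))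

theorem part_card : (part 1).card = 31671 ∧ (part 31672).card = 275264 := by
  have hmap : ∀ (s lo hi : Nat), hi ≤ 306936 →
      (∀ i, i < 306936 → (start i = s ↔ lo ≤ i ∧ i < hi)) → (part s).card = hi - lo := by
    intro s lo hi hhi h
    rw [← Nat.card_Ico lo hi]
    refine Finset.card_bij (fun c _ => (placeEquiv c : Nat)) ?_ ?_ ?_
    · intro c hc
      exact Finset.mem_Ico.2 ((h _ (placeEquiv c).2).1 (Finset.mem_filter.1 hc).2)
    · intro c _ d _ hcd
      exact placeEquiv.injective (Fin.ext hcd)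
    · intro i hi'
      have hi'' := Finset.mem_Ico.1 hi'
      obtain ⟨c, hc⟩ := placeEquiv.surjective ⟨i, lt_of_lt_of_le hi''.2 hhi⟩
      refine ⟨c, Finset.mem_filter.2 ⟨Finset.mem_univ _, ?_⟩, congrArg Fin.val hc⟩
      have hplace : place c = i := congrArg Fin.val hc
      show start (place c) = s
      rw [hplace]
      exact (h i (lt_of_lt_of_le hi''.2 hhi)).2 hi''
  refine ⟨(hmap 1 1 31672 (by norm_num) fun i _ => ?_).trans (by norm_num),
    (hmap 31672 31672 306936 le_rfl fun i hi => ?_).trans (by norm_num)⟩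
  all_goals rcases start_cases i with ⟨h, e⟩ | ⟨h, h', e⟩ | ⟨h, e⟩ <;> omega

end Cfsg.Agent.CosetCert.Fi24Suborbits
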